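import Mathlib
import Cfsg.Prelude.Def_LieChev
import Cfsg.Prelude.Def_E6
import Cfsg.Agent.ChevalleyStructure.E6Min.Torus
import Cfsg.Agent.FastGrp
import Cfsg.Agent.Prune
set_option linter.all false

section
prune_inst 0x7f00000000000000000000000000000000000000000000000000000000000000000000000000000000000000000000000000000000000000000000000000000000000000000000000000000000000000003fffffffffffffffffffffffffffbeffbdffffffff

-- part: H163/E65/Defs
section
set_option linter.all false

/-!
# S3650: definitions (helper163)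

* `L5` : the group `E₆(5)`; `Q5` : the group of the cubic form on the 27-dimensional space over `ZMod 5`;
* `Fixes L t p` : on every nonzero finite elementary abelian `t`-group on which `L` acts some element of order `p` of `L`
  has a fixed point `≠ 0`;
* `NA L a b` : no element of order `a * b`;
* `SameGraph G H` : `G` and `H` have the same prime graph.
-/

set_option autoImplicit false

namespace Cfsg.Agent.H163.E65

universe u v

instance fact5 : Fact (Nat.Prime 5) := ⟨by norm_num⟩

/-- the group `E₆(5)` -/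
abbrev L5 : Type := ↥(Cfsg.Lie.chevE6.group (ZMod 5))

/-- the isometry group of the cubic form on the 27-dimensional space over the field with 5 elements -/
abbrev Q5 : Type := ↥(Cfsg.Lie.E6univ (ZMod 5))

/-- on every nonzero finite elementary abelian `t`-group on which `L` acts some element of order `p` of `L` has a fixed
point `≠ 0` -/
def Fixes (L : Type u) [Group L] (t p : ℕ) : Prop :=
  ∀ (V : Type v) [AddCommGroup V] [Nontrivial V] [Finite V] (ρ : L →* AddMonoid.End V), (∀ v : V, t • v = 0) →
    ∃ x : L, orderOf x = p ∧ ∃ v : V, v ≠ 0 ∧ ρ x v = v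

/-- the prime divisors of `|E₆(5)|` -/
def pr : List ℕ := [2, 3, 5, 7, 11, 13, 19, 31, 71, 313, 601, 829]

end Cfsg.Agent.H163.E65
end

-- part: H184/GraphE6/Dual
section
set_option linter.all false
open scoped Cfsg.Agent.FastGrp

/-!
# The graph automorphism of the isometry group of the cubic form `T` (helper184, task GRAPH of S3650)

`dual g = g⁻ᵀ` preserves `T`; `P (a, b, c) = (aᵀ, cᵀ, bᵀ)` preserves `T`; `γ g = P g⁻ᵀ P` is an involutory automorphism.
-/

set_option autoImplicit false

namespace Cfsg.Agent.H184.GraphE6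

open Cfsg.Lie Cfsg.Agent.ChevalleyStructure.E6Min.Tables Cfsg.Agent.ChevalleyStructure.E6Min.Basic
  Cfsg.Agent.ChevalleyStructure.E6Min.Inv Cfsg.Agent.ChevalleyStructure.E6Min.Torus
open scoped Matrix MatrixGroups

section

variable {F : Type*} [CommRing F]

/-- `g ↦ g⁻ᵀ` -/
def dual : GL I27 F →* GL I27 F where
  toFun g := ⟨((g⁻¹ : GL I27 F) : Matrix I27 I27 F)ᵀ, (g : Matrix I27 I27 F)ᵀ,
    by rw [← Matrix.transpose_mul, ← Units.val_mul, mul_inv_cancel, Units.val_one, Matrix.transpose_one],
    by rw [← Matrix.transpose_mul, ← Units.val_mul, inv_mul_cancel, Units.val_one, Matrix.transpose_one]⟩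
  map_one' := by
    apply Units.ext
    show (((1 : GL I27 F)⁻¹ : GL I27 F) : Matrix I27 I27 F)ᵀ = 1
    rw [inv_one, Units.val_one, Matrix.transpose_one]
  map_mul' g h := by
    apply Units.ext
    show (((g * h)⁻¹ : GL I27 F) : Matrix I27 I27 F)ᵀ = _ * _
    rw [mul_inv_rev, Units.val_mul, Matrix.transpose_mul]

theorem coe_dual (g : GL I27 F) : ((dual g : GL I27 F) : Matrix I27 I27 F) = ((g⁻¹ : GL I27 F) : Matrix I27 I27 F)ᵀ := rfl

theorem coe_dual_inv (g : GL I27 F) : (((dual g)⁻¹ : GL I27 F) : Matrix I27 I27 F) = (g : Matrix I27 I27 F)ᵀ := rfl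

theorem dual_dual (g : GL I27 F) : dual (dual g) = g := by
  apply Units.ext
  rw [coe_dual, coe_dual_inv, Matrix.transpose_transpose]

/-- `N_rᵀ = N_{-r}` -/
theorem Nm_transpose {r : ℕ} (hr : r < 72) : (Nm F r)ᵀ = Nm F (71 - r) := by
  have h71 : 71 - r < 72 := by omega
  have key : ∀ {r : ℕ}, r < 72 → ∀ x y : I27, sg r y ≠ 0 → x = sr r y → y = sr (71 - r) x ∧ sg r y = sg (71 - r) x := by
    intro r hr x y h1 h2
    obtain ⟨k1, k2, -⟩ := row_opp hr h1
    rw [← h2] at k1 k2
    refine ⟨k1.symm, ?_⟩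
    have h3 : sg r y = 1 ∨ sg r y = -1 := Int.isUnit_iff.1 (IsUnit.of_mul_eq_one _ k2)
    rcases h3 with h3 | h3
    · rw [h3, one_mul] at k2
      rw [h3, k2]
    · rw [h3] at k2
      rw [h3]
      omega
  ext x y
  rw [Matrix.transpose_apply, Nm_apply, Nm_apply]
  by_cases h1 : x = sr r y ∧ sg r y ≠ 0
  · obtain ⟨k1, k2⟩ := key hr x y h1.2 h1.1
    rw [if_pos h1.1, if_pos k1, k2]
  · have h2 : ¬ (y = sr (71 - r) x ∧ sg (71 - r) x ≠ 0) := by
      rintro ⟨h3, h4⟩
      obtain ⟨k1, k2⟩ := key h71 y x h4 h3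
      rw [show 71 - (71 - r) = r by omega] at k1 k2
      exact h1 ⟨k1, by rw [← k2]; exact h4⟩
    have e1 : (if x = sr r y then ((sg r y : ℤ) : F) else 0) = 0 := by
      split_ifs with h
      · have : sg r y = 0 := by
          by_contra h0
          exact h1 ⟨h, h0⟩
        rw [this, Int.cast_zero]
      · rfl
    have e2 : (if y = sr (71 - r) x then ((sg (71 - r) x : ℤ) : F) else 0) = 0 := by
      split_ifs with h
      · have : sg (71 - r) x = 0 := by
          by_contra h0
          exact h2 ⟨h, h0⟩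
        rw [this, Int.cast_zero]
      · rfl
    rw [e1, e2]

theorem zM_transpose {r : ℕ} (hr : r < 72) (t : F) : (zM r t)ᵀ = zM (71 - r) t := by
  rw [zM_def, zM_def, Matrix.transpose_add, Matrix.transpose_one, Matrix.transpose_smul, Nm_transpose hr]

theorem dual_mem_Zgrp {g : GL I27 F} (hg : g ∈ Zgrp F) : dual g ∈ Zgrp F := by
  have h : Zgrp F ≤ (Zgrp F).comap dual := by
    conv_lhs => unfold Zgrp
    rw [Subgroup.closure_le]
    rintro g ⟨r, t, hr, hg⟩
    show dual g ∈ Zgrp F
    have h1 : g = zU r t := Units.ext (by rw [hg, coe_zU hr])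
    have h2 : dual g = zU (71 - r) (-t) := by
      apply Units.ext
      rw [coe_dual, coe_zU (by omega), h1]
      have h3 : (((zU r t : GL I27 F)⁻¹ : GL I27 F) : Matrix I27 I27 F) = zM r (-t) := by
        unfold zU
        rw [dif_pos hr]
        rfl
      rw [h3, zM_transpose hr]
    rw [h2]
    exact zU_mem _ _
  exact h hg

/-- the index map of `P` -/
def pi (x : I27) : I27 := (![0, 2, 1] x.1, x.2.2, x.2.1)

theorem pi_pi (x : I27) : pi (pi x) = x := by revert x; decide

/-- `P` as a matrix -/
def PM (F : Type*) [CommRing F] : Matrix I27 I27 F := Matrix.of fun x y => if y = pi x then 1 else 0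

theorem PM_apply (x y : I27) : PM F x y = if y = pi x then 1 else 0 := rfl

theorem PM_mulVec (v : I27 → F) (x : I27) : (PM F *ᵥ v) x = v (pi x) := by
  simp [Matrix.mulVec, dotProduct, PM_apply]

theorem PM_sq : PM F * PM F = 1 := by
  ext x y
  rw [Matrix.mul_apply]
  simp only [PM_apply, ite_mul, one_mul, zero_mul, Finset.sum_ite_eq', Finset.mem_univ, if_true, pi_pi, Matrix.one_apply,
    eq_comm]

theorem PM_transpose : (PM F)ᵀ = PM F := by
  ext x y
  rw [Matrix.transpose_apply, PM_apply, PM_apply]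
  have h : x = pi y ↔ y = pi x := by
    constructor
    · rintro rfl; rw [pi_pi]
    · rintro rfl; rw [pi_pi]
  simp only [h]

/-- `P` as an element of the general linear group -/
def PU (F : Type*) [CommRing F] : GL I27 F := ⟨PM F, PM F, PM_sq, PM_sq⟩

theorem coe_PU : ((PU F : GL I27 F) : Matrix I27 I27 F) = PM F := rfl

theorem PU_sq : PU F * PU F = 1 := Units.ext PM_sq

theorem dual_PU : dual (PU F) = PU F := by
  apply Units.ext
  rw [coe_dual]
  exact PM_transpose

end

section

variable {F : Type*} [Field F]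

theorem PU_mem : PU F ∈ E6univ F := by
  intro v
  have h : (Units.coeHom (Matrix I27 I27 F)) (PU F) *ᵥ v = fun x => v (pi x) := by
    ext x
    exact PM_mulVec v x
  rw [h]
  simp only [cubicT, mat3, Matrix.det_fin_three, Matrix.trace_fin_three, Matrix.mul_apply, Fin.sum_univ_three,
    Matrix.of_apply, pi, Matrix.cons_val_zero, Matrix.cons_val_one, Matrix.cons_val]
  ring

variable [Fintype F]

theorem dual_mem (hF : 3 ≤ Fintype.card F) {g : GL I27 F} (hg : g ∈ E6univ F) : dual g ∈ E6univ F := by
  rw [← Zgrp_eq hF] at hg ⊢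
  exact dual_mem_Zgrp hg

/-- the graph automorphism on the general linear group -/
def gU (g : GL I27 F) : GL I27 F := PU F * dual g * PU F

omit [Fintype F] in
theorem gU_gU (g : GL I27 F) : gU (gU g) = g := by
  unfold gU
  rw [map_mul, map_mul, dual_dual, dual_PU]
  calc PU F * (PU F * (g : GL I27 F) * PU F) * PU F = (PU F * PU F) * g * (PU F * PU F) := by group
    _ = g := by rw [PU_sq, one_mul, mul_one]

omit [Fintype F] in
theorem gU_mul (g h : GL I27 F) : gU (g * h) = gU g * gU h := by
  unfold gU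
  rw [map_mul]
  calc PU F * (dual (g : GL I27 F) * dual (h : GL I27 F)) * PU F =
      PU F * dual (g : GL I27 F) * 1 * dual (h : GL I27 F) * PU F := by group
    _ = _ := by rw [← PU_sq]; group

theorem gU_mem (hF : 3 ≤ Fintype.card F) {g : GL I27 F} (hg : g ∈ E6univ F) : gU g ∈ E6univ F :=
  (E6univ F).mul_mem ((E6univ F).mul_mem PU_mem (dual_mem hF hg)) PU_mem

/-- the graph automorphism -/
def gam (hF : 3 ≤ Fintype.card F) : MulAut ↥(E6univ F) where
  toFun g := ⟨gU g.1, gU_mem hF g.2⟩
  invFun g := ⟨gU g.1, gU_mem hF g.2⟩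
  left_inv g := Subtype.ext (gU_gU g.1)
  right_inv g := Subtype.ext (gU_gU g.1)
  map_mul' g h := Subtype.ext (gU_mul g.1 h.1)

theorem coe_gam (hF : 3 ≤ Fintype.card F) (g : ↥(E6univ F)) :
    ((gam hF g : ↥(E6univ F)) : GL I27 F) = gU g.1 := rfl

theorem gam_sq (hF : 3 ≤ Fintype.card F) : gam hF ^ 2 = (1 : MulAut ↥(E6univ F)) := by
  ext1 g
  rw [pow_two]
  exact (gam hF).left_inv g

/-- `γ g = g` iff `g P gᵀ = P` -/
theorem gam_eq_iff (hF : 3 ≤ Fintype.card F) (g : ↥(E6univ F)) : gam hF g = g ↔
    ((g : GL I27 F) : Matrix I27 I27 F) * PM F * ((g : GL I27 F) : Matrix I27 I27 F)ᵀ = PM F := by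
  have h1 : (g : GL I27 F) * PU F * (dual (g : GL I27 F))⁻¹ = PU F ↔
      ((g : GL I27 F) : Matrix I27 I27 F) * PM F * ((g : GL I27 F) : Matrix I27 I27 F)ᵀ = PM F := by
    constructor
    · intro h
      exact congrArg (fun x : GL I27 F => (x : Matrix I27 I27 F)) h
    · intro h
      exact Units.ext h
  rw [← h1]
  constructor
  · intro h
    have h2 : PU F * dual (g : GL I27 F) * PU F = g := congrArg (fun x : ↥(E6univ F) => (x : GL I27 F)) h
    calc (g : GL I27 F) * PU F * (dual (g : GL I27 F))⁻¹ =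
        PU F * dual (g : GL I27 F) * PU F * PU F * (dual (g : GL I27 F))⁻¹ := by rw [h2]
      _ = PU F * dual (g : GL I27 F) * (PU F * PU F) * (dual (g : GL I27 F))⁻¹ := by group
      _ = PU F := by rw [PU_sq]; group
  · intro h
    apply Subtype.ext
    rw [coe_gam]
    unfold gU
    have h2 : (g : GL I27 F) * PU F = PU F * dual (g : GL I27 F) := by
      calc (g : GL I27 F) * PU F = (g : GL I27 F) * PU F * (dual (g : GL I27 F))⁻¹ * dual (g : GL I27 F) := by group
        _ = _ := by rw [h]
    rw [← h2]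
    calc (g : GL I27 F) * PU F * PU F = (g : GL I27 F) * (PU F * PU F) := by group
      _ = g := by rw [PU_sq, mul_one]

end

end Cfsg.Agent.H184.GraphE6

private theorem dce_362f4919b6fe : _root_.True := by
  try have : _root_.True := by simp only [_root_.Cfsg.Agent.H184.GraphE6.pi.eq_1]
  exact _root_.True.intro
end
end
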